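import Groth.Agent.Et18.H0Lift.SuppCalc
import Groth.Agent.Et18.FLC
import Groth.Agent.Et18.ConstNhd
import Groth.Agent.Et18.FilteredSections
import Groth.Agent.Et18.ShriekFibre

/-!
# Supports of sections of locally constant sheaves are open
-/

set_option autoImplicit false
set_option backward.isDefEq.respectTransparency.types false
set_option backward.isDefEq.respectTransparency false

universe u

open CategoryTheory CategoryTheory.Limits AlgebraicGeometry Opposite
open Groth.Agent.Et18 Groth.Agent.Et18.H0Lift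

namespace Groth.Agent.HcCurve25

/-- The support of a section of a constant sheaf is open. -/
theorem isOpen_sectSupp_cst {T : Scheme.{u}} (A : AddCommGrpCat.{u + 1}) (U : T.Etale)
    (τ : EtCoh.sect ((cst T).obj A) U) : IsOpen (EtShriek.sectSupp ((cst T).obj A) U τ) := by
  refine isOpen_iff_forall_mem_open.mpr fun y hy => ?_
  obtain ⟨W, g, ⟨a, ha⟩, hyW⟩ := exists_mem_sieve_point (Presheaf.imageSieve_mem T.smallEtaleTopology
    (toSheafify T.smallEtaleTopology ((Functor.const T.Etaleᵒᵖ).obj A)) (U := op U) τ) y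
  have ha' : cstSec A W a = ((cst T).obj A).obj.map g.op τ := ha
  obtain ⟨w, hw⟩ := hyW
  have hne : a ≠ 0 := by
    intro h0
    exact hy W g ⟨w, hw⟩ (ha'.symm.trans (by rw [h0, map_zero]))
  haveI := etale_map_left g
  refine ⟨Set.range g.left, ?_, g.left.isOpenMap.isOpen_range, ⟨w, hw⟩⟩
  rintro z ⟨x, rfl⟩
  refine sectSupp_restrict_subset _ g τ ?_
  rw [← ha']
  by_contra hx
  obtain ⟨v, hv⟩ := exists_fiber_point (sepPoint T (W.hom x)) W x (sepPoint_default T _).symm
  rw [← hv] at hx
  have h0 := germ_eq_zero_of_not_mem_sectSupp _ _ W _ v hx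
  refine hne ((cstGerm_bijective (sepPoint T (W.hom x)) A).1 ?_)
  rw [map_zero]
  exact ((congrArg (fun t => t a) (congrArg (fun t => (ConcreteCategory.hom t : _ → _))
    (cstSec_germ (sepPoint T (W.hom x)) A W v))).symm).trans h0

/-- The support of a global section of a pull-back of a locally constant sheaf is open. -/
theorem isOpen_gSupp {X T : Scheme.{u}} {c : T ⟶ X} {F : EtCoh.Ab X}
    (hF : EtCoh.IsFiniteLocallyConstant F) (σ : gSec c F) : IsOpen (gSupp σ) := by
  refine isOpen_iff_forall_mem_open.mpr fun y hy => ?_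
  obtain ⟨U, u₀, A, hu, -, hU⟩ := isFLC_iff.mp hF (c y)
  haveI : Etale U.hom := U.prop
  let a : pullback U.hom c ⟶ T := pullback.snd U.hom c
  obtain ⟨z, hz₁, hz₂⟩ := Scheme.Pullback.exists_preimage_pullback (f := U.hom) (g := c) u₀ y hu
  obtain ⟨e⟩ := hU.comp (pullback.fst U.hom c) (k := a ≫ c) pullback.condition
  let σ' := pullSec a c F rfl σ
  have hmem : ∀ x, x ∈ gSupp σ' ↔ a x ∈ gSupp σ := fun x => mem_gSupp_pullSec a rfl σ x
  let τ := e.hom.hom.app (op (EtCoh.top _)) σ'
  have hτ : gSupp σ' = EtShriek.sectSupp _ _ τ := by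
    refine Set.Subset.antisymm ?_ (EtShriek.sectSupp_map_subset e.hom _ σ')
    have h2 := EtShriek.sectSupp_map_subset e.inv (EtCoh.top (pullback U.hom c)) τ
    have h3 : e.inv.hom.app (op (EtCoh.top _)) τ = σ' :=
      congrArg (fun t => t σ') (congrArg (fun t => t.hom.app (op (EtCoh.top _))) e.hom_inv_id)
    rwa [h3] at h2
  haveI : Etale a := inferInstanceAs (Etale (pullback.snd U.hom c))
  refine ⟨a '' gSupp σ', ?_, a.isOpenMap _ (hτ ▸ isOpen_sectSupp_cst A _ τ), ⟨z, ?_, hz₂⟩⟩
  · rintro _ ⟨x, hx, rfl⟩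
    exact (hmem x).mp hx
  · exact (hmem z).mpr (hz₂.symm ▸ hy)

end Groth.Agent.HcCurve25
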