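import Groth.Agent.Et18.ClosedPointSupport
import Groth.Agent.Et18.ExtZeroSplit
import Groth.Agent.Unram17Lib.RelDim
import Groth.Agent.GenSmoothLib.SmoothDim
import Groth.Agent.CurvesLib24.Basic
import Groth.Agent.AssSch12.Push

/-!
# Excision of finitely many closed points in top degree
-/

set_option autoImplicit false
set_option backward.isDefEq.respectTransparency.types false
set_option backward.isDefEq.respectTransparency false

universe u

open CategoryTheory CategoryTheory.Limits AlgebraicGeometry Opposite CategoryTheory.Abelian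
open Groth.Agent.Et18

namespace Groth.Agent.HcCurve25

variable {U X : Scheme.{u}} (j : U ⟶ X) [Etale j] [Mono j] [EtShriek.JCont j]
  {Ω : Type u} [Field Ω] [IsSepClosed Ω] (ξ : Spec (CommRingCat.of Ω) ⟶ X)

instance subsingleton_pointLift : Subsingleton (PointLift j ξ) :=
  ⟨fun u v => Subtype.ext ((cancel_mono j).1 (u.2.trans v.2.symm))⟩

theorem isIso_extZeroInj (u : PointLift j ξ) (F : EtCoh.Ab U) : IsIso (extZeroInj j ξ F u) := by
  let h := extZeroIsColimit j ξ F
  let s : Cofan (fun v : PointLift j ξ => (EtCoh.stalk v.1).obj F) :=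
    Cofan.mk _ (fun v => eqToHom (by rw [Subsingleton.elim v u] : (EtCoh.stalk v.1).obj F = (EtCoh.stalk u.1).obj F))
  refine ⟨h.desc s, (h.fac s ⟨u⟩).trans (by simp [s]), h.hom_ext fun ⟨v⟩ => ?_⟩
  obtain rfl := Subsingleton.elim v u
  refine ((Category.assoc _ _ _).symm.trans ?_).trans (Category.comp_id _).symm
  exact (congrArg (fun t => t ≫ extZeroInj j ξ F v) ((h.fac s ⟨v⟩).trans (by simp [s] : _ = 𝟙 _))).trans
    (Category.id_comp _)

theorem isZero_stalk_extZero [IsEmpty (PointLift j ξ)] (F : EtCoh.Ab U) :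
    IsZero ((EtCoh.stalk ξ).obj ((EtShriek.extZero j).obj F)) := by
  refine (IsZero.iff_id_eq_zero _).2 ((extZeroIsColimit j ξ F).hom_ext fun ⟨v⟩ => ?_)
  exact (IsEmpty.false v).elim

theorem isIso_stalk_extZero_map {F G : EtCoh.Ab U} (a : F ⟶ G)
    (h : ∀ u : PointLift j ξ, IsIso ((EtCoh.stalk u.1).map a)) :
    IsIso ((EtCoh.stalk ξ).map ((EtShriek.extZero j).map a)) := by
  by_cases hne : Nonempty (PointLift j ξ)
  · obtain ⟨u⟩ := hne
    haveI := h u
    haveI := isIso_extZeroInj j ξ u F
    haveI := isIso_extZeroInj j ξ u G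
    haveI : IsIso (extZeroInj j ξ F u ≫ (EtCoh.stalk ξ).map ((EtShriek.extZero j).map a)) := by
      rw [← extZeroInj_naturality]; infer_instance
    exact IsIso.of_isIso_comp_left (extZeroInj j ξ F u) _
  · haveI := not_nonempty_iff.1 hne
    exact isIso_of_isInitial (isZero_stalk_extZero j ξ F).isInitial (isZero_stalk_extZero j ξ G).isInitial _

theorem isIso_stalk_counit (u : PointLift j ξ) (H : EtCoh.Ab X) :
    IsIso ((EtCoh.stalk ξ).map ((EtShriek.extZeroAdj j).counit.app H)) := by
  haveI := isIso_extZeroInj j ξ u ((EtShriek.restrAlong j).obj H)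
  haveI : IsIso (extZeroInj j ξ ((EtShriek.restrAlong j).obj H) u ≫
      (EtCoh.stalk ξ).map ((EtShriek.extZeroAdj j).counit.app H)) :=
    (ConcreteCategory.isIso_iff_bijective (restrStalkMap j ξ u H)).2 (restrStalkMap_bijective j ξ u H)
  exact IsIso.of_isIso_comp_left (extZeroInj j ξ ((EtShriek.restrAlong j).obj H) u) _

omit U X j Ω ξ

/-- A map of etale sheaves on a scheme of finite type over a separably closed field whose stalks are
isomorphisms outside closed points is bijective on cohomology in degrees at least two. -/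
theorem bijective_H_map_of_closedPoints {K : Type u} [Field K] [IsSepClosed K] {P : Scheme.{u}}
    (c : P ⟶ Spec (CommRingCat.of K)) [LocallyOfFiniteType c] [QuasiCompact c]
    {A B : EtCoh.Ab P} (φ : A ⟶ B)
    (h : ∀ x : P, ¬ IsClosed ({x} : Set P) → IsIso ((EtCoh.stalk (sepPoint P x)).map φ))
    (n : ℕ) : Function.Bijective (Sheaf.H.map φ (n + 2)) := by
  have hker : ∀ x ∈ EtPBC.supp (kernel φ), IsClosed ({x} : Set P) := fun x hx => by
    by_contra hc
    haveI := h x hc
    exact (mem_supp_iff _ (sepPoint P x) (sepPoint_default P x)).1 hx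
      (IsZero.of_iso (isZero_kernel_of_mono _) (PreservesKernel.iso (EtCoh.stalk (sepPoint P x)) φ))
  have hcok : ∀ x ∈ EtPBC.supp (cokernel φ), IsClosed ({x} : Set P) := fun x hx => by
    by_contra hc
    haveI := h x hc
    exact (mem_supp_iff _ (sepPoint P x) (sepPoint_default P x)).1 hx
      (IsZero.of_iso (isZero_cokernel_of_epi _) (PreservesCokernel.iso (EtCoh.stalk (sepPoint P x)) φ))
  let p := Abelian.factorThruImage φ
  let ι := Abelian.image.ι φ
  have hpι : p ≫ ι = φ := Abelian.image.fac φ
  let S₁ := ShortComplex.mk (kernel.ι φ) p ((cancel_mono ι).1 (by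
    rw [Category.assoc, hpι, kernel.condition, zero_comp]))
  have h₁ : S₁.ShortExact :=
    { exact := by
        let m : S₁ ⟶ ShortComplex.mk (kernel.ι φ) φ (kernel.condition φ) :=
          { τ₁ := 𝟙 _, τ₂ := 𝟙 _, τ₃ := ι
            comm₁₂ := (Category.id_comp _).trans (Category.comp_id _).symm
            comm₂₃ := (Category.id_comp _).trans hpι.symm }
        haveI : Epi m.τ₁ := inferInstanceAs (Epi (𝟙 _))
        haveI : IsIso m.τ₂ := inferInstanceAs (IsIso (𝟙 _))
        haveI : Mono m.τ₃ := inferInstanceAs (Mono ι)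
        exact (ShortComplex.exact_iff_of_epi_of_isIso_of_mono m).2 (ShortComplex.exact_kernel φ)
      mono_f := inferInstanceAs (Mono (kernel.ι φ))
      epi_g := inferInstanceAs (Epi p) }
  let S₂ := ShortComplex.mk ι (cokernel.π φ) ((cancel_epi p).1 (by
    rw [← Category.assoc, hpι, cokernel.condition, comp_zero]))
  have h₂ : S₂.ShortExact :=
    { exact := ShortComplex.exact_of_f_is_kernel _ (kernelIsKernel (cokernel.π φ))
      mono_f := inferInstanceAs (Mono ι)
      epi_g := inferInstanceAs (Epi (cokernel.π φ)) }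
  have e : ∀ z, Sheaf.H.map φ (n + 2) z = Sheaf.H.map ι (n + 2) (Sheaf.H.map p (n + 2) z) := fun z => by
    rw [← Sheaf.H.map_comp_apply, hpι]
  constructor
  · refine (injective_iff_map_eq_zero _).2 fun z hz => ?_
    rw [e, Sheaf.H.map_apply] at hz
    obtain ⟨w, hw⟩ := Ext.covariant_sequence_exact₁ _ h₂ _ hz (rfl : n + 1 + 1 = n + 2)
    haveI := ClosedPointSupport.subsingleton_H c (cokernel φ) hcok (n + 1) (Nat.succ_pos _)
    have hw0 : Sheaf.H.map p (n + 2) z = 0 := by
      rw [← hw, show w = 0 from Subsingleton.elim (α := EtCoh.H P (cokernel φ) (n + 1)) _ _]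
      exact Ext.zero_comp ..
    rw [Sheaf.H.map_apply] at hw0
    obtain ⟨v, hv⟩ := Ext.covariant_sequence_exact₂ _ h₁ z hw0
    haveI := ClosedPointSupport.subsingleton_H c (kernel φ) hker (n + 2) (Nat.succ_pos _)
    rw [← hv, show v = 0 from Subsingleton.elim (α := EtCoh.H P (kernel φ) (n + 2)) _ _, Ext.zero_comp]
  · intro y
    haveI := ClosedPointSupport.subsingleton_H c (cokernel φ) hcok (n + 2) (Nat.succ_pos _)
    obtain ⟨w, hw⟩ := Ext.covariant_sequence_exact₂ _ h₂ y
      (Subsingleton.elim (α := EtCoh.H P (cokernel φ) (n + 2)) _ _)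
    haveI := ClosedPointSupport.subsingleton_H c (kernel φ) hker (n + 3) (Nat.succ_pos _)
    obtain ⟨v, hv⟩ := Ext.covariant_sequence_exact₃ _ h₁ w (rfl : n + 2 + 1 = n + 3)
      (Subsingleton.elim (α := EtCoh.H P (kernel φ) (n + 3)) _ _)
    refine ⟨v, ?_⟩
    rw [e, Sheaf.H.map_apply, Sheaf.H.map_apply]
    exact (congrArg (fun t => Ext.comp t _ _) hv).trans hw

/-- A point of a one-dimensional irreducible scheme outside a non-empty open is closed. -/
theorem isClosed_singleton_of_notMem {X : Scheme.{u}} [IrreducibleSpace X]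
    (hdim : topologicalKrullDim X ≤ 1) (O : X.Opens) (hO : (O : Set X).Nonempty) {x : X}
    (hx : x ∉ O) : IsClosed ({x} : Set X) := by
  rw [← closure_subset_iff_isClosed]
  intro z hz
  by_contra hzx
  have hη : genericPoint X ∈ O := ((genericPoint_spec X).mem_open_set_iff O.2).mpr (by simpa using hO)
  have h1 : z < x := lt_of_le_not_ge (specializes_iff_mem_closure.2 hz)
    fun h => hzx (Inseparable.eq (h.antisymm (specializes_iff_mem_closure.2 hz)))
  have h2 : x < genericPoint X := lt_of_le_not_ge (genericPoint_specializes x) fun h =>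
    hx ((Inseparable.eq (Specializes.antisymm h (genericPoint_specializes x))).symm ▸ hη)
  have h3 : ringKrullDim (X.presheaf.stalk z) ≤ 1 :=
    (CurvesLib24.stalk_dim_le_topologicalKrullDim z).trans hdim
  rw [ringKrullDim_stalk_eq_coheight] at h3
  have h4 : Order.coheight z ≤ 1 := by exact_mod_cast h3
  have h5 : (1 : ℕ∞) ≤ Order.coheight x := le_trans le_add_self (Order.coheight_add_one_le h2)
  have h6 : (1 : ℕ∞) + 1 ≤ 1 :=
    (add_le_add h5 le_rfl).trans ((Order.coheight_add_one_le h1).trans h4)
  exact absurd h6 (by decide)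

/-- Over a closed point, the points of an integral morphism are closed. -/
theorem isClosed_singleton_of_integral {P Q : Scheme.{u}} (f : P ⟶ Q) [IsIntegralHom f] {x : P}
    (h : IsClosed ({f x} : Set Q)) : IsClosed ({x} : Set P) := by
  rw [← closure_subset_iff_isClosed]
  intro z hz
  have hs : x ⤳ z := specializes_iff_mem_closure.2 hz
  have he : f z = f x := by
    have := (hs.map f.continuous).mem_closed h rfl
    exact this
  exact Groth.Agent.AssSch12.eq_of_specializes_of_isIntegralHom f hs he

end Groth.Agent.HcCurve25
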